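import Mathlib
import Groth.Prelude.Def_Disc

/-!
# Nondegenerate functionals on finite algebras (helper6)

`Nondeg l` for `l : F →ₗ[κ] κ`: `l (r * ·) = 0` implies `r = 0`.  Transport along algebra
isomorphisms, finite products, and the relation with `Disc.Omega κ F ≃ₗ[F] F`.
-/

set_option autoImplicit false
set_option linter.unusedSectionVars false
set_option linter.unusedVariables false
set_option linter.unusedSimpArgs false
set_option linter.style.haveILetI false
set_option maxHeartbeats 400000

universe u v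

namespace Groth.Agent.Lib.Helper6.FrobDual

/-- `l` is a nondegenerate functional on the `κ`-algebra `F`. -/
def Nondeg {κ : Type*} {F : Type*} [CommRing κ] [CommRing F] [Algebra κ F] (l : F →ₗ[κ] κ) :
    Prop :=
  ∀ r : F, (∀ x : F, l (r * x) = 0) → r = 0

section transport

variable {κ : Type*} {F G : Type*} [CommRing κ] [CommRing F] [CommRing G] [Algebra κ F]
  [Algebra κ G]

theorem Nondeg.comp_algEquiv (e : G ≃ₐ[κ] F) {l : F →ₗ[κ] κ} (h : Nondeg l) :
    Nondeg (l ∘ₗ e.toLinearMap) := by
  intro r hr
  have h0 : e r = 0 := h (e r) (fun x => by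
    have h1 := hr (e.symm x)
    simpa using h1)
  exact (map_eq_zero_iff e e.injective).mp h0

theorem exists_nondeg_of_algEquiv (e : G ≃ₐ[κ] F) (h : ∃ l : F →ₗ[κ] κ, Nondeg l) :
    ∃ l : G →ₗ[κ] κ, Nondeg l := by
  obtain ⟨l, hl⟩ := h
  exact ⟨_, hl.comp_algEquiv e⟩

theorem exists_nondeg_pi_iff {ι : Type*} [Fintype ι] [DecidableEq ι] (F : ι → Type*)
    [∀ i, CommRing (F i)] [∀ i, Algebra κ (F i)] :
    (∃ l : (∀ i, F i) →ₗ[κ] κ, Nondeg l) ↔ ∀ i, ∃ l : F i →ₗ[κ] κ, Nondeg l := by
  constructor
  · rintro ⟨l, hl⟩ i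
    refine ⟨l ∘ₗ LinearMap.single κ F i, ?_⟩
    intro r hr
    have h0 : (Pi.single i r : ∀ i, F i) = 0 := hl _ (fun x => by
      have h1 := hr (x i)
      have e : (Pi.single i r : ∀ i, F i) * x = Pi.single i (r * x i) := by
        ext j
        by_cases hj : j = i
        · subst hj; simp
        · simp [Pi.single_eq_of_ne hj]
      rw [e]
      simpa using h1)
    have h2 := congrFun h0 i
    simpa using h2
  · intro h
    choose l hl using h
    refine ⟨∑ i, (l i) ∘ₗ LinearMap.proj i, ?_⟩
    intro r hr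
    funext i
    apply hl i
    intro y
    have h1 := hr (Pi.single i y)
    simp only [LinearMap.sum_apply, LinearMap.comp_apply, LinearMap.proj_apply,
      Pi.mul_apply] at h1
    rw [Finset.sum_eq_single i] at h1
    · simpa using h1
    · intro j _ hj
      simp [Pi.single_eq_of_ne hj]
    · intro hi
      exact absurd (Finset.mem_univ i) hi

end transport

section general

variable {A : Type u} {B : Type v} [CommRing A] [CommRing B] [Algebra A B]

/-- A `B`-linear isomorphism `ω_{B/A} ≃ B` yields a nondegenerate functional. -/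
theorem nondeg_of_equiv (e : Disc.Omega A B ≃ₗ[B] B) : Nondeg (e.symm 1).toLinearMap := by
  intro r hr
  have h0 : r • e.symm 1 = 0 := by
    ext x
    rw [Disc.Omega.smul_toLinearMap_apply, hr x]
    rfl
  have h1 : e.symm r = 0 := by
    have : e.symm (r • (1 : B)) = r • e.symm 1 := map_smul e.symm r 1
    rw [smul_eq_mul, mul_one] at this
    rw [this, h0]
  exact (map_eq_zero_iff e.symm e.symm.injective).mp h1

end general

section field

variable {κ : Type u} {F : Type v} [Field κ] [CommRing F] [Algebra κ F] [Module.Finite κ F]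

/-- The map `r ↦ l (r * ·)`. -/
noncomputable def dualMap (l : F →ₗ[κ] κ) : F →ₗ[κ] Module.Dual κ F :=
  (LinearMap.mul κ F).compr₂ l

omit [Module.Finite κ F] in
@[simp] theorem dualMap_apply (l : F →ₗ[κ] κ) (r x : F) : dualMap l r x = l (r * x) := rfl

omit [Module.Finite κ F] in
theorem nondeg_iff_injective (l : F →ₗ[κ] κ) : Nondeg l ↔ Function.Injective (dualMap l) := by
  rw [injective_iff_map_eq_zero]
  constructor
  · intro h r hr
    exact h r (fun x => by rw [← dualMap_apply, hr]; rfl)
  · intro h r hr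
    exact h r (LinearMap.ext fun x => by rw [dualMap_apply, hr x]; rfl)

theorem nondeg_iff_surjective (l : F →ₗ[κ] κ) : Nondeg l ↔ Function.Surjective (dualMap l) := by
  rw [nondeg_iff_injective]
  exact LinearMap.injective_iff_surjective_of_finrank_eq_finrank
    (Subspace.dual_finrank_eq (K := κ) (V := F)).symm

/-- If every functional is of the form `l (r * ·)` then `l` is nondegenerate. -/
theorem nondeg_of_forall_exists (l : F →ₗ[κ] κ)
    (h : ∀ φ : F →ₗ[κ] κ, ∃ r : F, ∀ x, φ x = l (r * x)) : Nondeg l := by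
  rw [nondeg_iff_surjective]
  intro φ
  obtain ⟨r, hr⟩ := h φ
  exact ⟨r, LinearMap.ext fun x => by rw [dualMap_apply, hr x]⟩

/-- For a finite algebra over a field: `ω ≅ F` iff there is a nondegenerate functional. -/
theorem nonempty_omega_equiv_iff :
    Nonempty (Disc.Omega κ F ≃ₗ[F] F) ↔ ∃ l : F →ₗ[κ] κ, Nondeg l := by
  constructor
  · rintro ⟨e⟩
    exact ⟨_, nondeg_of_equiv e⟩
  · rintro ⟨l, hl⟩
    have hinj : Function.Injective (LinearMap.toSpanSingleton F (Disc.Omega κ F) ⟨l⟩) := by
      rw [injective_iff_map_eq_zero]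
      intro r hr
      apply hl r
      intro x
      have h1 := congrArg (fun φ : Disc.Omega κ F => φ.toLinearMap x) hr
      simpa [LinearMap.toSpanSingleton_apply] using h1
    have hsurj : Function.Surjective (LinearMap.toSpanSingleton F (Disc.Omega κ F) ⟨l⟩) := by
      intro φ
      obtain ⟨r, hr⟩ := (nondeg_iff_surjective l).mp hl φ.toLinearMap
      refine ⟨r, ?_⟩
      ext x
      rw [LinearMap.toSpanSingleton_apply, Disc.Omega.smul_toLinearMap_apply, ← hr, dualMap_apply]
    exact ⟨(LinearEquiv.ofBijective _ ⟨hinj, hsurj⟩).symm⟩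

end field

end Groth.Agent.Lib.Helper6.FrobDual
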