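import Mathlib
import Groth.Prelude
import Groth.Agent.Lib.Helper8.GorArt6
import Groth.Agent.Lib.Helper6.FrobDual.FDa

/-!
# Artinian local algebras finite over a field: Gorenstein iff a nondegenerate functional exists
(helper6)
-/

set_option autoImplicit false
set_option linter.unusedSectionVars false
set_option linter.unusedVariables false
set_option linter.unusedSimpArgs false
set_option linter.style.haveILetI false
set_option maxHeartbeats 400000

universe u v

namespace Groth.Agent.Lib.Helper6.FrobDual

open IsLocalRing Groth.Agent.Helper8.GorArt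

section loc

variable {R : Type u} [CommRing R] [IsLocalRing R] [IsArtinianRing R]

/-- Every nonzero element of an Artinian local ring has a nonzero multiple in the socle. -/
theorem exists_mul_mem_soc {r : R} (hr : r ≠ 0) : ∃ a : R, a * r ∈ Soc R R ∧ a * r ≠ 0 := by
  obtain ⟨n, hn⟩ : ∃ n : ℕ, maximalIdeal R ^ n = ⊥ := by
    have h := IsArtinianRing.isNilpotent_jacobson_bot (R := R)
    rw [IsLocalRing.jacobson_eq_maximalIdeal ⊥ bot_ne_top] at h
    exact h
  have key : ∀ k : ℕ, ∀ r : R, r ≠ 0 → (∀ a ∈ maximalIdeal R ^ k, a * r = 0) →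
      ∃ a : R, a * r ∈ Soc R R ∧ a * r ≠ 0 := by
    intro k
    induction k with
    | zero =>
      intro r hr h
      exact absurd (by simpa using h 1 (by simp)) hr
    | succ k ih =>
      intro r hr h
      by_cases hs : ∀ a ∈ maximalIdeal R, a * r = 0
      · exact ⟨1, by rw [one_mul]; exact fun a ha => hs a ha, by rwa [one_mul]⟩
      · push_neg at hs
        obtain ⟨a₀, ha₀, ha₀r⟩ := hs
        obtain ⟨a', h1, h2⟩ := ih (a₀ * r) ha₀r (fun a ha => by
          rw [← mul_assoc]
          exact h _ (by rw [pow_succ]; exact Ideal.mul_mem_mul ha ha₀))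
        exact ⟨a' * a₀, by rwa [mul_assoc], by rwa [mul_assoc]⟩
  exact key n r hr (fun a ha => by rw [hn] at ha; rw [(Submodule.mem_bot R).mp ha, zero_mul])

variable (R) in
/-- The socle is generated by any of its nonzero elements. -/
def SocCyclic : Prop := ∀ s ∈ Soc R R, s ≠ 0 → ∀ t ∈ Soc R R, ∃ r : R, t = r * s

theorem length_soc_le_one_iff_socCyclic : Module.length R (Soc R R) ≤ 1 ↔ SocCyclic R := by
  have h1 := one_le_length_soc R
  constructor
  · intro h s hs hs0 t ht
    have heq : Module.length R (Soc R R) = 1 := le_antisymm h h1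
    haveI : IsSimpleModule R (Soc R R) := Module.length_eq_one_iff.mp heq
    obtain ⟨r, hr⟩ := IsSimpleModule.toSpanSingleton_surjective R
      (m := (⟨s, hs⟩ : Soc R R)) (fun h0 => hs0 (congrArg Subtype.val h0)) ⟨t, ht⟩
    refine ⟨r, ?_⟩
    have h2 := congrArg Subtype.val hr
    simpa [LinearMap.toSpanSingleton_apply] using h2.symm
  · intro h
    haveI : Nontrivial (Soc R R) :=
      Module.length_pos_iff.mp (lt_of_lt_of_le zero_lt_one h1)
    have hsimple : IsSimpleModule R (Soc R R) :=
      isSimpleModule_iff_toSpanSingleton_surjective.mpr ⟨inferInstance, fun x hx y => by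
        obtain ⟨r, hr⟩ := h x.1 x.2 (fun h0 => hx (Subtype.ext h0)) y.1 y.2
        refine ⟨r, Subtype.ext ?_⟩
        rw [LinearMap.toSpanSingleton_apply]
        exact hr.symm⟩
    exact (Module.length_eq_one_iff.mpr hsimple).le

end loc

section fin

variable {κ : Type u} {R : Type u} [Field κ] [CommRing R] [Algebra κ R] [Module.Finite κ R]
  [IsLocalRing R]

theorem socCyclic_of_nondeg {l : R →ₗ[κ] κ} (hl : Nondeg l) : SocCyclic R := by
  intro s hs hs0 t ht
  let mκ : Submodule κ R := (maximalIdeal R).restrictScalars κ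
  let Sκ : Submodule κ R := (Soc R R).restrictScalars κ
  let T : R →ₗ[κ] R := LinearMap.mulLeft κ s
  have hker : LinearMap.ker T = mκ := by
    ext x
    simp only [LinearMap.mem_ker, T, LinearMap.mulLeft_apply, mκ, Submodule.restrictScalars_mem]
    constructor
    · intro hx
      by_contra hxm
      have hu : IsUnit x := by
        rwa [IsLocalRing.mem_maximalIdeal, mem_nonunits_iff, not_not] at hxm
      obtain ⟨u, rfl⟩ := hu
      exact hs0 ((Units.mul_left_eq_zero u).mp hx)
    · intro hx
      rw [mul_comm]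
      exact hs x hx
  have hrange : LinearMap.range T ≤ Sκ := by
    rintro _ ⟨x, rfl⟩
    show s * x ∈ Soc R R
    rw [mul_comm]
    exact (Soc R R).smul_mem x hs
  let Θ : Sκ →ₗ[κ] Module.Dual κ R := (dualMap l) ∘ₗ Sκ.subtype
  have hΘ : ∀ t : Sκ, Θ t ∈ mκ.dualAnnihilator := by
    intro t
    rw [Submodule.mem_dualAnnihilator]
    intro x hx
    show l (t.1 * x) = 0
    have h0 : t.1 * x = 0 := by
      rw [mul_comm]
      exact t.2 x hx
    rw [h0, map_zero]
  have hΘinj : Function.Injective (Θ.codRestrict mκ.dualAnnihilator hΘ) := by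
    intro a b hab
    have h1 : Θ a = Θ b := congrArg Subtype.val hab
    have h2 : dualMap l a.1 = dualMap l b.1 := h1
    exact Subtype.ext ((nondeg_iff_injective l).mp hl h2)
  have hle : Module.finrank κ Sκ ≤ Module.finrank κ (LinearMap.range T) := by
    have h1 := LinearMap.finrank_le_finrank_of_injective hΘinj
    have h2 := Subspace.finrank_add_finrank_dualAnnihilator_eq mκ
    have h3 := LinearMap.finrank_range_add_finrank_ker T
    rw [hker] at h3
    omega
  have heq : LinearMap.range T = Sκ := Submodule.eq_of_le_of_finrank_le hrange hle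
  have hmem : t ∈ LinearMap.range T := by
    rw [heq]
    exact ht
  obtain ⟨r, hr⟩ := hmem
  exact ⟨r, by rw [← hr]; exact mul_comm s r⟩

theorem exists_nondeg_of_socCyclic [IsArtinianRing R] (h : SocCyclic R) :
    ∃ l : R →ₗ[κ] κ, Nondeg l := by
  haveI : Nontrivial (Soc R R) :=
    Module.length_pos_iff.mp (lt_of_lt_of_le zero_lt_one (one_le_length_soc R))
  obtain ⟨⟨s, hs⟩, hs0'⟩ := exists_ne (0 : Soc R R)
  have hs0 : s ≠ 0 := fun h0 => hs0' (Subtype.ext h0)
  obtain ⟨l, hl⟩ : ∃ l : Module.Dual κ R, l s ≠ 0 := by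
    by_contra hcon
    push_neg at hcon
    exact hs0 ((Module.forall_dual_apply_eq_zero_iff κ s).mp hcon)
  refine ⟨l, fun r hr => ?_⟩
  by_contra hr0
  obtain ⟨a, ha, ha0⟩ := exists_mul_mem_soc hr0
  obtain ⟨b, hb⟩ := h (a * r) ha ha0 s hs
  apply hl
  rw [hb, show b * (a * r) = r * (b * a) by ring]
  exact hr _

/-- A local algebra finite over a field is Gorenstein iff it carries a nondegenerate functional. -/
theorem isGorensteinLocalRing_iff_exists_nondeg :
    LocCoh.IsGorensteinLocalRing R ↔ ∃ l : R →ₗ[κ] κ, Nondeg l := by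
  haveI : IsArtinianRing R := IsArtinianRing.of_finite κ R
  rw [isGorensteinLocalRing_iff_length_soc_le_one, length_soc_le_one_iff_socCyclic]
  exact ⟨exists_nondeg_of_socCyclic, fun ⟨l, hl⟩ => socCyclic_of_nondeg hl⟩

end fin

end Groth.Agent.Lib.Helper6.FrobDual
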