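import Mathlib
import Groth.Prelude
import Groth.Agent.Lib.Helper6.FrobDual.FDb

/-!
# Finite algebras over a field: Gorenstein iff a nondegenerate functional exists (helper6)
-/

set_option autoImplicit false
set_option linter.unusedSectionVars false
set_option linter.unusedVariables false
set_option linter.unusedSimpArgs false
set_option linter.style.haveILetI false
set_option maxHeartbeats 400000

universe u v

namespace Groth.Agent.Lib.Helper6.FrobDual

/-- A finite algebra over a field is Gorenstein iff it carries a nondegenerate functional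
(i.e. iff it is a Frobenius algebra). -/
theorem isGorensteinRing_iff_exists_nondeg (κ F : Type u) [Field κ] [CommRing F] [Algebra κ F]
    [Module.Finite κ F] :
    LocCoh.IsGorensteinRing F ↔ ∃ l : F →ₗ[κ] κ, Nondeg l := by
  classical
  haveI : IsArtinianRing F := IsArtinianRing.of_finite κ F
  haveI : IsNoetherianRing F := inferInstance
  haveI hfin : ∀ (p : Ideal F) [p.IsPrime], Module.Finite κ (Localization.AtPrime p) :=
    fun p _ =>
      Module.Finite.of_surjective (Algebra.algHom κ F (Localization.AtPrime p)).toLinearMap
        (IsArtinianRing.localization_surjective p.primeCompl (Localization.AtPrime p))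
  letI : Fintype (PrimeSpectrum F) := Fintype.ofFinite _
  have hloc : ∀ (p : Ideal F) [p.IsPrime],
      LocCoh.IsGorensteinLocalRing (Localization.AtPrime p) ↔
        ∃ l : Localization.AtPrime p →ₗ[κ] κ, Nondeg l :=
    fun p _ => isGorensteinLocalRing_iff_exists_nondeg
  have hpi : (∃ l : F →ₗ[κ] κ, Nondeg l) ↔
      ∀ p : PrimeSpectrum F, ∃ l : Localization.AtPrime p.asIdeal →ₗ[κ] κ, Nondeg l := by
    rw [← exists_nondeg_pi_iff (κ := κ)
      (fun p : PrimeSpectrum F => Localization.AtPrime p.asIdeal)]
    let e : F ≃ₐ[κ] PrimeSpectrum.PiLocalization F :=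
      (PrimeSpectrum.toPiLocalizationEquiv F).restrictScalars κ
    exact ⟨exists_nondeg_of_algEquiv e.symm, exists_nondeg_of_algEquiv e⟩
  rw [hpi]
  constructor
  · intro hG p
    exact (hloc p.asIdeal).mp (hG.isGorensteinLocalRing_localization p.asIdeal)
  · intro h
    exact { isGorensteinLocalRing_localization := fun p hp => (hloc p).mpr (h ⟨p, hp⟩) }

end Groth.Agent.Lib.Helper6.FrobDual
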