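import Mathlib
import Groth.Prelude
import Groth.Agent.Lib.Helper6.FrobDual.FDc
import Groth.Agent.Lib.Helper2.Gor.CIGor
import Groth.Agent.Lib.Helper4.DimFT1
import Groth.Agent.Lib.Helper8.GorFlat5

/-!
# Zero-dimensional global complete intersections over a field are Frobenius (helper6)
-/

set_option autoImplicit false
set_option linter.unusedSectionVars false
set_option linter.unusedVariables false
set_option linter.unusedSimpArgs false
set_option linter.style.haveILetI false
set_option maxHeartbeats 400000

universe u v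

namespace Groth.Agent.Lib.Helper6.FrobDual

theorem omega_equiv_of_ci (k : Type u) [Field k] (n : ℕ) (f : Fin n → MvPolynomial (Fin n) k)
    (h0 : ringKrullDim (MvPolynomial (Fin n) k ⧸ Ideal.span (Set.range f)) = 0) :
    Nonempty (Disc.Omega k (MvPolynomial (Fin n) k ⧸ Ideal.span (Set.range f))
      ≃ₗ[MvPolynomial (Fin n) k ⧸ Ideal.span (Set.range f)]
        (MvPolynomial (Fin n) k ⧸ Ideal.span (Set.range f))) := by
  have hdim : Ring.KrullDimLE 0 (MvPolynomial (Fin n) k ⧸ Ideal.span (Set.range f)) :=
    Ring.krullDimLE_iff.mpr (by rw [h0]; rfl)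
  haveI hfin : Module.Finite k (MvPolynomial (Fin n) k ⧸ Ideal.span (Set.range f)) :=
    (Module.finite_iff_krullDimLE_zero k _).mpr hdim
  have hht : (n : ℕ∞) ≤ (Ideal.span (Set.range f)).height := by
    rw [Ideal.height_eq_inf_minimalPrimes]
    refine le_iInf₂ (fun J hJ => ?_)
    haveI hJp : J.IsPrime := hJ.1.1
    have hIJ : Ideal.span (Set.range f) ≤ J := hJ.1.2
    have hker : RingHom.ker (Ideal.Quotient.mk (Ideal.span (Set.range f))) ≤ J := by
      rw [Ideal.mk_ker]; exact hIJ
    haveI hmapp : (J.map (Ideal.Quotient.mk (Ideal.span (Set.range f)))).IsPrime :=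
      Ideal.map_isPrime_of_surjective Ideal.Quotient.mk_surjective hker
    haveI hmapm : (J.map (Ideal.Quotient.mk (Ideal.span (Set.range f)))).IsMaximal :=
      Ideal.isMaximal_of_isPrime _
    have hcomap : (J.map (Ideal.Quotient.mk (Ideal.span (Set.range f)))).comap
        (Ideal.Quotient.mk (Ideal.span (Set.range f))) = J := by
      rw [Ideal.comap_map_of_surjective _ Ideal.Quotient.mk_surjective]
      exact sup_eq_left.mpr (by rw [← RingHom.ker_eq_comap_bot]; exact hker)
    haveI hJm : J.IsMaximal := by
      rw [← hcomap]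
      exact Ideal.comap_isMaximal_of_surjective _ Ideal.Quotient.mk_surjective
    rw [Groth.Agent.Lib.Helper4.DimFT1.mvPolynomial_height_of_isMaximal k n J]
  have hG : LocCoh.IsGorensteinRing (MvPolynomial (Fin n) k ⧸ Ideal.span (Set.range f)) :=
    Groth.Agent.Helper2.Gor.isGorensteinRing_quotient_span_range
      (Groth.Agent.Helper8.GorFlat.isGorensteinRing_of_isRegularRing _) f _ rfl hht
  exact nonempty_omega_equiv_iff.mpr ((isGorensteinRing_iff_exists_nondeg k _).mp hG)

end Groth.Agent.Lib.Helper6.FrobDual
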