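import Mathlib

/-!
# A criterion for invertibility of a module via "rank one generators" (helper6)

`goodIdeal B M` is the ideal of `c : B` such that there is `t : Mᵛ ⊗ M` with `contractLeft t = c`
and `c • z = contractLeft z • t` for all `z`.  If it contains `1`, then `M` is invertible.
A pair `(ψ, m)` with `ψ m = c` and `c • φ = ψ φ • m` for all `φ` puts `c ^ 2` in the ideal.
-/

set_option autoImplicit false
set_option linter.unusedSectionVars false
set_option linter.unusedVariables false
set_option linter.unusedSimpArgs false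
set_option linter.style.haveILetI false
set_option maxHeartbeats 400000

universe u v

namespace Groth.Agent.Lib.Helper6.FrobDual

open TensorProduct

section crit

variable (B : Type u) [CommRing B] (M : Type v) [AddCommGroup M] [Module B M]

/-- The ideal of "good" elements. -/
def goodIdeal : Ideal B where
  carrier := {c | ∃ t : Module.Dual B M ⊗[B] M, contractLeft B M t = c ∧
    ∀ z : Module.Dual B M ⊗[B] M, c • z = contractLeft B M z • t}
  add_mem' := by
    rintro c₁ c₂ ⟨t₁, h₁, h₁'⟩ ⟨t₂, h₂, h₂'⟩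
    exact ⟨t₁ + t₂, by rw [map_add, h₁, h₂], fun z => by rw [add_smul, smul_add, h₁', h₂']⟩
  zero_mem' := ⟨0, map_zero _, fun z => by simp⟩
  smul_mem' := by
    rintro a c ⟨t, h, h'⟩
    exact ⟨a • t, by rw [map_smul, h], fun z => by rw [smul_eq_mul, mul_smul, h', smul_comm]⟩

variable {B M}

theorem mem_goodIdeal_iff (c : B) : c ∈ goodIdeal B M ↔
    ∃ t : Module.Dual B M ⊗[B] M, contractLeft B M t = c ∧
      ∀ z : Module.Dual B M ⊗[B] M, c • z = contractLeft B M z • t := Iff.rfl

theorem invertible_of_one_mem (h : (1 : B) ∈ goodIdeal B M) : Module.Invertible B M := by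
  obtain ⟨t, ht, ht'⟩ := h
  refine ⟨⟨?_, ?_⟩⟩
  · rw [injective_iff_map_eq_zero]
    intro z hz
    have h1 := ht' z
    rw [one_smul, hz, zero_smul] at h1
    exact h1
  · intro c
    exact ⟨c • t, by rw [map_smul, ht, smul_eq_mul, mul_one]⟩

theorem sq_mem_goodIdeal (ψ : M →ₗ[B] B) (m : M) (c : B) (h1 : ψ m = c)
    (h2 : ∀ φ : M, c • φ = ψ φ • m) : c ^ 2 ∈ goodIdeal B M := by
  refine ⟨c • (ψ ⊗ₜ[B] m), by rw [map_smul, contractLeft_apply, h1, smul_eq_mul, sq],
    fun z => ?_⟩
  induction z using TensorProduct.induction_on with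
  | zero => simp
  | add x y hx hy => rw [smul_add, hx, hy, map_add, add_smul]
  | tmul θ φ =>
    rw [contractLeft_apply]
    have e1 : ∀ φ' : M, c * θ φ' = ψ φ' * θ m := by
      intro φ'
      have h3 := congrArg θ (h2 φ')
      rw [map_smul, map_smul, smul_eq_mul, smul_eq_mul] at h3
      exact h3
    have hsym : c • (ψ φ • θ) = c • (θ φ • ψ) := by
      ext φ'
      simp only [LinearMap.smul_apply, smul_eq_mul]
      calc c * (ψ φ * θ φ') = ψ φ * (c * θ φ') := by ring
        _ = ψ φ * (ψ φ' * θ m) := by rw [e1]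
        _ = ψ φ' * (ψ φ * θ m) := by ring
        _ = ψ φ' * (c * θ φ) := by rw [e1]
        _ = c * (θ φ * ψ φ') := by ring
    calc c ^ 2 • (θ ⊗ₜ[B] φ) = c • (θ ⊗ₜ[B] (c • φ)) := by
          rw [sq, mul_smul, TensorProduct.tmul_smul]
      _ = c • (θ ⊗ₜ[B] (ψ φ • m)) := by rw [h2]
      _ = (c • (ψ φ • θ)) ⊗ₜ[B] m := by
          rw [TensorProduct.tmul_smul, TensorProduct.smul_tmul', TensorProduct.smul_tmul']
      _ = (c • (θ φ • ψ)) ⊗ₜ[B] m := by rw [hsym]
      _ = θ φ • c • (ψ ⊗ₜ[B] m) := by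
          rw [smul_comm c (θ φ) ψ, TensorProduct.smul_tmul', TensorProduct.smul_tmul']

end crit

end Groth.Agent.Lib.Helper6.FrobDual
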