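import Mathlib
import Groth.Prelude.Def_Disc
import Groth.Agent.Lib.Helper6.FrobDual.FDe

/-!
# Gram determinants and invertibility of `ω_{B/A}` for finite free `B` (helper6)
-/

set_option autoImplicit false
set_option linter.unusedSectionVars false
set_option linter.unusedVariables false
set_option linter.unusedSimpArgs false
set_option linter.style.haveILetI false
set_option maxHeartbeats 400000

universe u v w

namespace Groth.Agent.Lib.Helper6.FrobDual

open TensorProduct Module

section gram

variable {A : Type u} {B : Type v} [CommRing A] [CommRing B] [Algebra A B]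
variable {ι : Type w} [Fintype ι] [DecidableEq ι] (b : Basis ι A B)

/-- The Gram matrix of the functional `l` in the basis `b`. -/
noncomputable def gram (l : B →ₗ[A] A) : Matrix ι ι A := Matrix.of fun i j => l (b i * b j)

omit [Fintype ι] [DecidableEq ι] in
@[simp] theorem gram_apply (l : B →ₗ[A] A) (i j : ι) : gram b l i j = l (b i * b j) := rfl

/-- `x ↦ l (x * ·)`. -/
noncomputable def dmap (l : B →ₗ[A] A) : B →ₗ[A] Module.Dual A B := (LinearMap.mul A B).compr₂ l

@[simp] theorem dmap_apply (l : B →ₗ[A] A) (x y : B) : dmap l x y = l (x * y) := rfl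

theorem toMatrix_dmap (l : B →ₗ[A] A) :
    LinearMap.toMatrix b b.dualBasis (dmap l) = gram b l := by
  ext i j
  rw [LinearMap.toMatrix_apply, Basis.dualBasis_repr, dmap_apply, gram_apply, mul_comm]

theorem dmap_eq_toLin (l : B →ₗ[A] A) : dmap l = Matrix.toLin b b.dualBasis (gram b l) := by
  rw [← toMatrix_dmap, Matrix.toLin_toMatrix]

/-- The "adjugate" of `dmap l`. -/
noncomputable def adjmap (l : B →ₗ[A] A) : Module.Dual A B →ₗ[A] B :=
  Matrix.toLin b.dualBasis b (gram b l).adjugate

theorem adjmap_comp_dmap (l : B →ₗ[A] A) :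
    adjmap b l ∘ₗ dmap l = (gram b l).det • LinearMap.id := by
  rw [adjmap, dmap_eq_toLin b l, ← Matrix.toLin_mul, Matrix.adjugate_mul, map_smul,
    Matrix.toLin_one]

theorem dmap_comp_adjmap (l : B →ₗ[A] A) :
    dmap l ∘ₗ adjmap b l = (gram b l).det • LinearMap.id := by
  rw [adjmap, dmap_eq_toLin b l, ← Matrix.toLin_mul, Matrix.mul_adjugate, map_smul,
    Matrix.toLin_one]

theorem adjmap_dmap_apply (l : B →ₗ[A] A) (x : B) :
    adjmap b l (dmap l x) = (gram b l).det • x := by
  have h := LinearMap.congr_fun (adjmap_comp_dmap b l) x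
  simpa using h

theorem dmap_adjmap_apply (l : B →ₗ[A] A) (ψ : Module.Dual A B) :
    dmap l (adjmap b l ψ) = (gram b l).det • ψ := by
  have h := LinearMap.congr_fun (dmap_comp_adjmap b l) ψ
  simpa using h

theorem key_linear (l : B →ₗ[A] A) (ψ : Module.Dual A B) (x : B) :
    (gram b l).det • adjmap b l (ψ ∘ₗ LinearMap.mulLeft A x) =
      x * ((gram b l).det • adjmap b l ψ) := by
  have h1 : (gram b l).det • (ψ ∘ₗ LinearMap.mulLeft A x) = dmap l (x * adjmap b l ψ) := by
    ext y
    rw [LinearMap.smul_apply, LinearMap.comp_apply, LinearMap.mulLeft_apply, dmap_apply,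
      ← LinearMap.smul_apply, ← dmap_adjmap_apply b l ψ, dmap_apply]
    congr 1
    ring
  have h2 := congrArg (adjmap b l) h1
  rw [map_smul, adjmap_dmap_apply] at h2
  rw [mul_smul_comm]
  exact h2

/-- The `B`-linear map `ω → B`, `φ ↦ d • adj(φ)`. -/
noncomputable def psiΩ (l : B →ₗ[A] A) : Disc.Omega A B →ₗ[B] B where
  toFun φ := (gram b l).det • adjmap b l φ.toLinearMap
  map_add' φ₁ φ₂ := by
    rw [Disc.Omega.add_toLinearMap, map_add, smul_add]
  map_smul' x φ := by
    simp only [RingHom.id_apply, smul_eq_mul]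
    exact key_linear b l φ.toLinearMap x

theorem psiΩ_apply (l : B →ₗ[A] A) (φ : Disc.Omega A B) :
    psiΩ b l φ = (gram b l).det • adjmap b l φ.toLinearMap := rfl

theorem psiΩ_self (l : B →ₗ[A] A) :
    psiΩ b l ⟨l⟩ = algebraMap A B ((gram b l).det ^ 2) := by
  have h1 : l = dmap l 1 := by
    ext y
    rw [dmap_apply, one_mul]
  have h2 : adjmap b l l = (gram b l).det • (1 : B) := by
    have h3 := adjmap_dmap_apply b l 1
    rw [← h1] at h3
    exact h3
  show (gram b l).det • adjmap b l l = _
  rw [h2, smul_smul, ← sq, Algebra.algebraMap_eq_smul_one]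

theorem smul_eq_psiΩ_smul (l : B →ₗ[A] A) (φ : Disc.Omega A B) :
    algebraMap A B ((gram b l).det ^ 2) • φ = psiΩ b l φ • (⟨l⟩ : Disc.Omega A B) := by
  ext y
  rw [Disc.Omega.smul_toLinearMap_apply, Disc.Omega.smul_toLinearMap_apply, psiΩ_apply]
  show φ.toLinearMap (algebraMap A B ((gram b l).det ^ 2) * y) =
    dmap l ((gram b l).det • adjmap b l φ.toLinearMap) y
  rw [map_smul, dmap_adjmap_apply, LinearMap.smul_apply, LinearMap.smul_apply,
    Algebra.algebraMap_eq_smul_one, smul_mul_assoc, one_mul, map_smul, sq, mul_smul]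

theorem pow_four_mem_goodIdeal (l : B →ₗ[A] A) :
    algebraMap A B ((gram b l).det ^ 4) ∈ goodIdeal B (Disc.Omega A B) := by
  have h := sq_mem_goodIdeal (psiΩ b l) (⟨l⟩ : Disc.Omega A B) _ (psiΩ_self b l)
    (smul_eq_psiΩ_smul b l)
  rw [← map_pow, ← pow_mul] at h
  exact h

/-- If for every prime `p` of `A` some Gram determinant is not in `p`, then `ω_{B/A}` is an
invertible `B`-module. -/
theorem omega_invertible_of_gram
    (h : ∀ (p : Ideal A) [p.IsPrime], ∃ l : B →ₗ[A] A, (gram b l).det ∉ p) :
    Module.Invertible B (Disc.Omega A B) := by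
  apply invertible_of_one_mem
  have htop : (goodIdeal B (Disc.Omega A B)).comap (algebraMap A B) = ⊤ := by
    by_contra hne
    obtain ⟨p, hp, hle⟩ := Ideal.exists_le_maximal _ hne
    haveI := hp.isPrime
    obtain ⟨l, hl⟩ := h p
    apply hl
    have h4 : (gram b l).det ^ 4 ∈ (goodIdeal B (Disc.Omega A B)).comap (algebraMap A B) :=
      pow_four_mem_goodIdeal b l
    exact hp.isPrime.mem_of_pow_mem 4 (hle h4)
  have h1 : (1 : A) ∈ (goodIdeal B (Disc.Omega A B)).comap (algebraMap A B) := by
    rw [htop]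
    trivial
  rw [Ideal.mem_comap, map_one] at h1
  exact h1

end gram

end Groth.Agent.Lib.Helper6.FrobDual
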