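import Mathlib
import Groth.Prelude
import Groth.Agent.Lib.Helper6.FrobDual.FDc
import Groth.Agent.Lib.Helper6.FrobDual.FDf

/-!
# Lifting nondegenerate functionals from a fibre (helper6)
-/

set_option autoImplicit false
set_option linter.unusedSectionVars false
set_option linter.unusedVariables false
set_option linter.unusedSimpArgs false
set_option linter.style.haveILetI false
set_option maxHeartbeats 400000

universe u v w

namespace Groth.Agent.Lib.Helper6.FrobDual

open TensorProduct Module

section field

variable {κ : Type u} {F : Type v} [Field κ] [CommRing F] [Algebra κ F]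
variable {ι : Type w} [Fintype ι] [DecidableEq ι] (bκ : Basis ι κ F)

/-- Over a field, a nondegenerate functional has nonzero Gram determinant. -/
theorem gram_det_ne_zero_of_nondeg (l : F →ₗ[κ] κ) (hl : Nondeg l) : (gram bκ l).det ≠ 0 := by
  haveI : Module.Finite κ F := Module.Finite.of_basis bκ
  have hinj : Function.Injective (dmap l) := (nondeg_iff_injective l).mp hl
  have hsurj : Function.Surjective (dmap l) :=
    (LinearMap.injective_iff_surjective_of_finrank_eq_finrank
      (Subspace.dual_finrank_eq (K := κ) (V := F)).symm).mp hinj
  let e : F ≃ₗ[κ] Module.Dual κ F := LinearEquiv.ofBijective (dmap l) ⟨hinj, hsurj⟩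
  have h1 := LinearEquiv.isUnit_det e bκ bκ.dualBasis
  have h2 : (e : F →ₗ[κ] Module.Dual κ F) = dmap l := LinearMap.ext fun _ => rfl
  rw [h2, toMatrix_dmap] at h1
  exact h1.ne_zero

end field

section lift

variable {A B : Type u} [CommRing A] [CommRing B] [Algebra A B]
variable {ι : Type w} [Fintype ι] [DecidableEq ι] (b : Basis ι A B)
variable (p : Ideal A) [p.IsPrime]

theorem exists_gram_det_notMem_of_nondeg
    (lb : p.Fiber B →ₗ[p.ResidueField] p.ResidueField) (hlb : Nondeg lb) :
    ∃ l : B →ₗ[A] A, (gram b l).det ∉ p := by
  -- clear denominators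
  have hres : ∀ i, ∃ x : Localization.AtPrime p,
      IsLocalRing.residue (Localization.AtPrime p) x = lb (b.baseChange p.ResidueField i) :=
    fun i => IsLocalRing.residue_surjective _
  choose x hx using hres
  obtain ⟨s, hs⟩ := IsLocalization.exist_integer_multiples_of_finite p.primeCompl x
  choose a ha using hs
  have hsκ : algebraMap A p.ResidueField (s : A) ≠ 0 := by
    rw [Ne, Ideal.algebraMap_residueField_eq_zero]
    exact s.2
  have hres2 : ∀ r : A, algebraMap A p.ResidueField r =
      IsLocalRing.residue (Localization.AtPrime p) (algebraMap A (Localization.AtPrime p) r) := by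
    intro r
    rw [IsScalarTower.algebraMap_apply A (Localization.AtPrime p) p.ResidueField,
      IsLocalRing.ResidueField.algebraMap_eq]
  let l : B →ₗ[A] A := b.constr A a
  let lb' : p.Fiber B →ₗ[p.ResidueField] p.ResidueField := algebraMap A p.ResidueField (s : A) • lb
  have hlb' : Nondeg lb' := by
    intro r hr
    apply hlb r
    intro y
    have h1 := hr y
    rw [LinearMap.smul_apply, smul_eq_mul] at h1
    exact (mul_eq_zero.mp h1).resolve_left hsκ
  -- compatibility of `lb'` and `l`
  have hcompat : ∀ y : B, lb' ((1 : p.ResidueField) ⊗ₜ[A] y) = algebraMap A p.ResidueField (l y) := by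
    have h1 : (lb'.restrictScalars A) ∘ₗ (TensorProduct.mk A p.ResidueField B 1) =
        (Algebra.linearMap A p.ResidueField) ∘ₗ l := by
      refine b.ext fun i => ?_
      simp only [LinearMap.comp_apply, LinearMap.restrictScalars_apply, TensorProduct.mk_apply,
        Algebra.linearMap_apply]
      show algebraMap A p.ResidueField (s : A) • lb ((1 : p.ResidueField) ⊗ₜ[A] b i) = _
      rw [← Basis.baseChange_apply, ← hx i, Basis.constr_basis, smul_eq_mul, hres2, hres2,
        ← map_mul, ha i, Algebra.smul_def]
    intro y
    exact LinearMap.congr_fun h1 y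
  -- Gram matrices
  have hgram : gram (b.baseChange p.ResidueField) lb' =
      (gram b l).map (algebraMap A p.ResidueField) := by
    ext i j
    rw [gram_apply, Matrix.map_apply, gram_apply, Basis.baseChange_apply, Basis.baseChange_apply,
      Algebra.TensorProduct.tmul_mul_tmul, one_mul, hcompat]
  have hdet := gram_det_ne_zero_of_nondeg (b.baseChange p.ResidueField) lb' hlb'
  refine ⟨l, fun hmem => hdet ?_⟩
  rw [hgram, ← RingHom.mapMatrix_apply, ← RingHom.map_det,
    Ideal.algebraMap_residueField_eq_zero]
  exact hmem

end lift

end Groth.Agent.Lib.Helper6.FrobDual
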