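import Mathlib
import Groth.Prelude
import Groth.Agent.Lib.Helper6.FrobDual.FDg

/-!
# Finite free algebras: Gorenstein fibres iff `ω_{B/A}` invertible (helper6)
-/

set_option autoImplicit false
set_option linter.unusedSectionVars false
set_option linter.unusedVariables false
set_option linter.unusedSimpArgs false
set_option linter.style.haveILetI false
set_option maxHeartbeats 400000

universe u v w

namespace Groth.Agent.Lib.Helper6.FrobDual

open TensorProduct Module

/-- `toLinearMap` as an additive homomorphism. -/
def omegaToLinearMapHom (A : Type u) (B : Type v) [CommRing A] [CommRing B] [Algebra A B] :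
    Disc.Omega A B →+ (B →ₗ[A] A) where
  toFun := Disc.Omega.toLinearMap
  map_zero' := rfl
  map_add' _ _ := rfl

section rev

variable {A B : Type u} [CommRing A] [CommRing B] [Algebra A B]
variable (p : Ideal A) [p.IsPrime]

/-- The base change of a functional to the fibre. -/
noncomputable def bcFun (φ : B →ₗ[A] A) : p.Fiber B →ₗ[p.ResidueField] p.ResidueField :=
  LinearMap.liftBaseChange p.ResidueField ((Algebra.linearMap A p.ResidueField) ∘ₗ φ)

theorem bcFun_tmul (φ : B →ₗ[A] A) (c : p.ResidueField) (y : B) :
    bcFun p φ (c ⊗ₜ[A] y) = c * algebraMap A p.ResidueField (φ y) := by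
  rw [bcFun, LinearMap.liftBaseChange_tmul, LinearMap.comp_apply, Algebra.linearMap_apply,
    smul_eq_mul]

attribute [local instance] Algebra.TensorProduct.rightAlgebra

/-- The `B`-module structure on `ω` of the fibre. -/
noncomputable local instance instModBOmegaFib :
    Module B (Disc.Omega p.ResidueField (p.Fiber B)) :=
  Module.compHom _ (algebraMap B (p.Fiber B))

local instance instTowerOmegaFib :
    IsScalarTower B (p.Fiber B) (Disc.Omega p.ResidueField (p.Fiber B)) :=
  IsScalarTower.of_algebraMap_smul fun r x => rfl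

/-- The `B`-linear base change map `ω_{B/A} → ω_{F/κ}`. -/
noncomputable def gmap : Disc.Omega A B →ₗ[B] Disc.Omega p.ResidueField (p.Fiber B) where
  toFun φ := ⟨bcFun p φ.toLinearMap⟩
  map_add' φ₁ φ₂ := by
    refine Disc.Omega.ext ?_
    show bcFun p (φ₁.toLinearMap + φ₂.toLinearMap) =
      bcFun p φ₁.toLinearMap + bcFun p φ₂.toLinearMap
    refine LinearMap.ext fun z => ?_
    induction z using TensorProduct.induction_on with
    | zero => simp
    | add x y hx hy => rw [map_add, hx, hy, map_add]
    | tmul c y =>
      rw [LinearMap.add_apply, bcFun_tmul, bcFun_tmul, bcFun_tmul, LinearMap.add_apply, map_add,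
        mul_add]
  map_smul' x φ := by
    refine Disc.Omega.ext (LinearMap.ext fun z => ?_)
    show bcFun p (x • φ).toLinearMap z =
      bcFun p φ.toLinearMap (((1 : p.ResidueField) ⊗ₜ[A] x) * z)
    induction z using TensorProduct.induction_on with
    | zero => simp
    | add z₁ z₂ h₁ h₂ => rw [map_add, h₁, h₂, mul_add, map_add]
    | tmul c y =>
      rw [Algebra.TensorProduct.tmul_mul_tmul, bcFun_tmul, bcFun_tmul, one_mul,
        Disc.Omega.smul_toLinearMap_apply]

theorem gmap_toLinearMap (φ : Disc.Omega A B) :
    (gmap p φ).toLinearMap = bcFun p φ.toLinearMap := rfl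

theorem exists_nondeg_fiber_of_invertible {ι : Type w} [Fintype ι] [DecidableEq ι]
    (b : Basis ι A B) [Module.Invertible B (Disc.Omega A B)] :
    ∃ l : p.Fiber B →ₗ[p.ResidueField] p.ResidueField, Nondeg l := by
  haveI : Module.Finite p.ResidueField (p.Fiber B) :=
    Module.Finite.of_basis (b.baseChange p.ResidueField)
  haveI : IsArtinianRing (p.Fiber B) := IsArtinianRing.of_finite p.ResidueField (p.Fiber B)
  haveI hinv : Module.Invertible (p.Fiber B) (p.Fiber B ⊗[B] Disc.Omega A B) := inferInstance
  haveI hfree : Module.Free (p.Fiber B) (p.Fiber B ⊗[B] Disc.Omega A B) := inferInstance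
  obtain ⟨e⟩ := Module.Invertible.free_iff_linearEquiv.mp hfree
  let θ : p.Fiber B ⊗[B] Disc.Omega A B →ₗ[p.Fiber B] Disc.Omega p.ResidueField (p.Fiber B) :=
    LinearMap.liftBaseChange (p.Fiber B) (gmap p)
  -- surjectivity of θ
  have hθ : ∀ μ : p.Fiber B →ₗ[p.ResidueField] p.ResidueField, ∃ z, (θ z).toLinearMap = μ := by
    intro μ
    refine ⟨∑ i, (algebraMap p.ResidueField (p.Fiber B) (μ (b.baseChange p.ResidueField i)))
      ⊗ₜ[B] (⟨b.coord i⟩ : Disc.Omega A B), ?_⟩
    refine (b.baseChange p.ResidueField).ext fun j => ?_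
    have h1 : (θ (∑ i, (algebraMap p.ResidueField (p.Fiber B)
        (μ (b.baseChange p.ResidueField i))) ⊗ₜ[B] (⟨b.coord i⟩ : Disc.Omega A B))).toLinearMap =
        ∑ i, ((algebraMap p.ResidueField (p.Fiber B) (μ (b.baseChange p.ResidueField i))) •
          gmap p (⟨b.coord i⟩ : Disc.Omega A B)).toLinearMap := by
      rw [map_sum]
      exact map_sum (omegaToLinearMapHom p.ResidueField (p.Fiber B)) _ _
    rw [h1, LinearMap.sum_apply, Finset.sum_eq_single j]
    · rw [Disc.Omega.smul_toLinearMap_apply, gmap_toLinearMap, Basis.baseChange_apply,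
        Algebra.TensorProduct.algebraMap_apply, Algebra.TensorProduct.tmul_mul_tmul,
        bcFun_tmul, one_mul, mul_one, Basis.coord_apply, Basis.repr_self,
        Finsupp.single_eq_same, map_one, mul_one]
      rfl
    · intro i _ hij
      rw [Disc.Omega.smul_toLinearMap_apply, gmap_toLinearMap, Basis.baseChange_apply,
        Basis.baseChange_apply, Algebra.TensorProduct.algebraMap_apply, Algebra.TensorProduct.tmul_mul_tmul,
        bcFun_tmul, one_mul, mul_one, Basis.coord_apply, Basis.repr_self,
        Finsupp.single_eq_of_ne hij, map_zero, mul_zero]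
    · intro hj
      exact absurd (Finset.mem_univ j) hj
  refine ⟨(θ (e.symm 1)).toLinearMap, nondeg_of_forall_exists _ (fun φ => ?_)⟩
  obtain ⟨z, hz⟩ := hθ φ
  refine ⟨e z, fun y => ?_⟩
  have h2 : z = e z • e.symm 1 := by
    rw [← map_smul, smul_eq_mul, mul_one, LinearEquiv.symm_apply_apply]
  rw [← Disc.Omega.smul_toLinearMap_apply, ← map_smul, ← h2, hz]

end rev

/-- Finite free algebras: all fibres are Gorenstein iff `ω_{B/A}` is an invertible `B`-module. -/
theorem gorenstein_fibers_iff_omega_invertible {A B : Type u} [CommRing A] [CommRing B]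
    [Algebra A B] [Module.Finite A B] [Module.Free A B] :
    (∀ (p : Ideal A) [p.IsPrime], LocCoh.IsGorensteinRing (p.Fiber B)) ↔
      Module.Invertible B (Disc.Omega A B) := by
  classical
  let b := Module.Free.chooseBasis A B
  constructor
  · intro h
    apply omega_invertible_of_gram b
    intro p _
    haveI : Module.Finite p.ResidueField (p.Fiber B) :=
      Module.Finite.of_basis (b.baseChange p.ResidueField)
    obtain ⟨lb, hlb⟩ := (isGorensteinRing_iff_exists_nondeg p.ResidueField (p.Fiber B)).mp (h p)
    exact exists_gram_det_notMem_of_nondeg b p lb hlb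
  · intro hinv p _
    haveI := hinv
    haveI : Module.Finite p.ResidueField (p.Fiber B) :=
      Module.Finite.of_basis (b.baseChange p.ResidueField)
    exact (isGorensteinRing_iff_exists_nondeg p.ResidueField (p.Fiber B)).mpr
      (exists_nondeg_fiber_of_invertible p b)

end Groth.Agent.Lib.Helper6.FrobDual
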